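/-
Helper library for S13955: factorization of rank one idempotent matrices over polynomial
rings over products of valuation rings.
-/
import Mathlib

set_option autoImplicit false

universe u v

open Finset

namespace Groth.Agent.PicPiVal

theorem isGCDMonoid_of_mulEquiv {α β : Type*} [CommMonoidWithZero α] [CommMonoidWithZero β]
    (e : α ≃* β) [IsGCDMonoid α] : IsGCDMonoid β := by
  haveI := IsGCDMonoid.isCancelMulZero (α := α)
  rw [isGCDMonoid_iff_exists_gcd]
  refine ⟨Function.Injective.isCancelMulZero e.symm e.symm.injective (map_zero _)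
    (map_mul _), fun a b => ?_⟩
  obtain ⟨c, hc⟩ := ((isGCDMonoid_iff_exists_gcd).1 ‹IsGCDMonoid α›).2 (e.symm a) (e.symm b)
  refine ⟨e c, fun d => ?_⟩
  rw [← map_dvd_iff e.symm, ← map_dvd_iff e.symm (b := b), hc (e.symm d), ← map_dvd_iff e,
    e.apply_symm_apply]

theorem isGCDMonoid_mvPolynomial (R : Type u) [CommRing R] [IsDomain R] [IsGCDMonoid R] :
    ∀ n : ℕ, IsGCDMonoid (MvPolynomial (Fin n) R)
  | 0 => isGCDMonoid_of_mulEquiv (MvPolynomial.isEmptyRingEquiv R (Fin 0)).symm.toMulEquiv
  | n + 1 => by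
    haveI := isGCDMonoid_mvPolynomial R n
    exact isGCDMonoid_of_mulEquiv (MvPolynomial.finSuccEquiv R n).symm.toMulEquiv

/-- A nonzero rank one matrix over a GCD domain is a product column by row. -/
theorem exists_factor_of_rankOne {S : Type u} [CommRing S] [IsDomain S] [IsGCDMonoid S]
    {m : ℕ} (E : Fin m → Fin m → S) (h : ∀ a b c d, E a b * E c d = E a d * E c b)
    (htr : ∑ a, E a a = 1) :
    ∃ v w : Fin m → S, ∀ a b, E a b = v a * w b := by
  classical
  obtain ⟨inst⟩ : Nonempty (NormalizedGCDMonoid S) := inferInstance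
  have hex : ∃ a b, E a b ≠ 0 := by
    by_contra hne
    push Not at hne
    simp [hne] at htr
  obtain ⟨a₁, b₀, hab⟩ := hex
  obtain ⟨v, hv, hgcd⟩ := Finset.extract_gcd (s := (univ : Finset (Fin m))) (fun a => E a b₀)
    ⟨a₁, mem_univ _⟩
  set g := (univ : Finset (Fin m)).gcd (fun a => E a b₀) with hgdef
  have hg : g ≠ 0 := by
    intro hg
    exact hab (by rw [hv a₁ (mem_univ _), hg, zero_mul])
  have hsym : ∀ a b c, E a b * v c = v a * E c b := by
    intro a b c
    have h1 := h a b c b₀
    rw [hv c (mem_univ _), hv a (mem_univ _)] at h1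
    exact mul_left_cancel₀ hg (by linear_combination h1)
  have hdvd : ∀ a b, v a ∣ E a b := by
    intro a b
    have h1 : v a ∣ (univ : Finset (Fin m)).gcd (fun c => E a b * v c) :=
      Finset.dvd_gcd fun c _ => ⟨E c b, hsym a b c⟩
    have h2 := h1.trans (Finset.gcd_mul_left' (s := (univ : Finset (Fin m))) (E a b) (f := v)).dvd
    rwa [hgcd, mul_one] at h2
  have hv1 : v a₁ ≠ 0 := by
    intro h0
    exact hab (by rw [hv a₁ (mem_univ _), h0, mul_zero])
  choose w hw using fun b => hdvd a₁ b
  refine ⟨v, w, fun a b => ?_⟩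
  have h1 := hsym a b a₁
  rw [hw b] at h1
  exact mul_right_cancel₀ hv1 (by linear_combination h1)

/-- A family of polynomials of bounded degree glues to a polynomial over the product. -/
theorem exists_pi_lift {ι : Type v} (R : ι → Type u) [∀ i, CommRing (R i)] {n : ℕ}
    (f : ∀ i, MvPolynomial (Fin n) (R i)) (D : ℕ) (hf : ∀ i, (f i).totalDegree ≤ D) :
    ∃ F : MvPolynomial (Fin n) (∀ i, R i),
      ∀ i, MvPolynomial.map (Pi.evalRingHom R i) F = f i := by
  classical
  let s : Finset (Fin n →₀ ℕ) := Finset.Iic (Finsupp.equivFunOnFinite.symm fun _ => D)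
  refine ⟨∑ m ∈ s, MvPolynomial.monomial m (fun i => (f i).coeff m), fun i => ?_⟩
  ext m
  rw [map_sum, MvPolynomial.coeff_sum]
  simp only [MvPolynomial.map_monomial, Pi.evalRingHom_apply, MvPolynomial.coeff_monomial,
    Finset.sum_ite_eq']
  split_ifs with hm
  · rfl
  · by_contra hne
    apply hm
    rw [Finset.mem_Iic, Finsupp.le_def]
    intro j
    have h1 := MvPolynomial.le_totalDegree (MvPolynomial.mem_support_iff.2 (Ne.symm hne))
    have h2 : m j ≤ m.sum fun _ e => e := by
      by_cases hj : j ∈ m.support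
      · exact Finset.single_le_sum (f := fun k => m k) (fun _ _ => Nat.zero_le _) hj
      · simp [Finsupp.notMem_support_iff.1 hj]
    simpa using h2.trans (h1.trans (hf i))

theorem map_eval_injective {ι : Type v} (R : ι → Type u) [∀ i, CommRing (R i)] {n : ℕ}
    {p q : MvPolynomial (Fin n) (∀ i, R i)}
    (h : ∀ i, MvPolynomial.map (Pi.evalRingHom R i) p = MvPolynomial.map (Pi.evalRingHom R i) q) :
    p = q := by
  ext m i
  have := congrArg (MvPolynomial.coeff m) (h i)
  simpa [MvPolynomial.coeff_map] using this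

/-- Rank one idempotent matrices over polynomial rings over products of GCD domains factor. -/
theorem exists_factor_pi {ι : Type v} (R : ι → Type u) [∀ i, CommRing (R i)]
    [∀ i, IsDomain (R i)] [∀ i, IsGCDMonoid (R i)] {n m : ℕ}
    (E : Fin m → Fin m → MvPolynomial (Fin n) (∀ i, R i))
    (h : ∀ a b c d, E a b * E c d = E a d * E c b) (htr : ∑ a, E a a = 1) :
    ∃ v w : Fin m → MvPolynomial (Fin n) (∀ i, R i), ∀ a b, E a b = v a * w b := by
  classical
  let Ei : ∀ i, Fin m → Fin m → MvPolynomial (Fin n) (R i) := fun i a b =>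
    MvPolynomial.map (Pi.evalRingHom R i) (E a b)
  have hfac : ∀ i, ∃ v w : Fin m → MvPolynomial (Fin n) (R i),
      ∀ a b, Ei i a b = v a * w b := by
    intro i
    haveI := isGCDMonoid_mvPolynomial (R i) n
    refine exists_factor_of_rankOne _ (fun a b c d => ?_) ?_
    · simp only [Ei, ← map_mul, h a b c d]
    · simp only [Ei, ← map_sum, htr, map_one]
  choose v w hvw using hfac
  let D : ℕ := univ.sup fun p : Fin m × Fin m => (E p.1 p.2).totalDegree
  have hD : ∀ i a b, (Ei i a b).totalDegree ≤ D := by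
    intro i a b
    refine le_trans ?_ (Finset.le_sup (f := fun p : Fin m × Fin m => (E p.1 p.2).totalDegree)
      (mem_univ (a, b)))
    exact Finset.sup_mono (MvPolynomial.support_map_subset _ _)
  have hne : ∀ i, ∃ a b, v i a ≠ 0 ∧ w i b ≠ 0 := by
    intro i
    by_contra hc
    push Not at hc
    have h0 : ∑ a, Ei i a a = 1 := by simp only [Ei, ← map_sum, htr, map_one]
    have : ∀ a, Ei i a a = 0 := by
      intro a
      rw [hvw i a a]
      rcases eq_or_ne (v i a) 0 with h' | h'
      · rw [h', zero_mul]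
      · rw [hc a a h', mul_zero]
    simp [this] at h0
  have hdeg : ∀ i a, (v i a).totalDegree ≤ D ∧ (w i a).totalDegree ≤ D := by
    intro i a
    obtain ⟨a₀, b₀, ha₀, hb₀⟩ := hne i
    constructor
    · rcases eq_or_ne (v i a) 0 with h' | h'
      · simp [h']
      · have := hD i a b₀
        rw [hvw i a b₀, MvPolynomial.totalDegree_mul_of_isDomain h' hb₀] at this
        omega
    · rcases eq_or_ne (w i a) 0 with h' | h'
      · simp [h']
      · have := hD i a₀ a
        rw [hvw i a₀ a, MvPolynomial.totalDegree_mul_of_isDomain ha₀ h'] at this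
        omega
  choose V hV using fun a => exists_pi_lift R (fun i => v i a) D (fun i => (hdeg i a).1)
  choose W hW using fun b => exists_pi_lift R (fun i => w i b) D (fun i => (hdeg i b).2)
  refine ⟨V, W, fun a b => map_eval_injective R fun i => ?_⟩
  rw [map_mul, hV, hW]
  exact hvw i a b

end Groth.Agent.PicPiVal
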